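import Cfsg.Agent.H847.Bs.Defs
import Cfsg.Agent.H883.Root
set_option linter.all false

/-!
# S5733: definitions, part 2

* `glue` : the automorphism of `V = D ⊕ U` induced by automorphisms of `D` and `U`;
* `cset` : the isometries conjugate (in the isometry group) to `glue x y`, `x ∈ X`, `y ∈ Y`; `gset` : the linear case;
* `IsSp`, `IsHerm`, `frmQ` : symplectic forms, hermitian forms, quadratic forms;
* `nQ` : the normal subgroup `SO` (odd characteristic) or `Ω = E Q` (even characteristic) of the orthogonal group;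
* `slV`, `suV` : special linear, special unitary groups of `V`;
* `fixSub H W U` : `H` contains all elements of determinant one which stabilise `W` and are trivial on `U`, and so on.
-/

set_option autoImplicit false

namespace Cfsg.Agent.H847.Bs

open Cfsg.Agent.H851.Dg (nd)
open QuadraticMap Cfsg.Agent.LieClassical.OrthCore

section Lin

variable {F V : Type*} [Field F] [AddCommGroup V] [Module F V] {D U : Submodule F V}

/-- the automorphism of `V = D ⊕ U` acting as `x` on `D` and as `y` on `U` -/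
noncomputable def glue (h : IsCompl D U) (x : D ≃ₗ[F] D) (y : U ≃ₗ[F] U) : V ≃ₗ[F] V :=
  (Submodule.prodEquivOfIsCompl D U h).symm ≪≫ₗ (x.prodCongr y) ≪≫ₗ (Submodule.prodEquivOfIsCompl D U h)

/-- the conjugates under `G` of the elements `glue x y` -/
def cset (G : Subgroup (V ≃ₗ[F] V)) (h : IsCompl D U) (X : Set (D ≃ₗ[F] D)) (Y : Set (U ≃ₗ[F] U)) : Set (V ≃ₗ[F] V) :=
  {z | ∃ g ∈ G, ∃ x ∈ X, ∃ y ∈ Y, z = g * glue h x y * g⁻¹}

/-- the special linear group of `V` -/
def slV (F V : Type*) [Field F] [AddCommGroup V] [Module F V] : Subgroup (V ≃ₗ[F] V) where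
  carrier := {g | LinearMap.det (g : V →ₗ[F] V) = 1}
  mul_mem' := by
    intro g h hg hh
    show LinearMap.det ((g : V →ₗ[F] V) ∘ₗ (h : V →ₗ[F] V)) = 1
    rw [LinearMap.det_comp, hg, hh, mul_one]
  one_mem' := LinearMap.det_id
  inv_mem' := by
    intro g hg
    have h1 : LinearMap.det ((g : V →ₗ[F] V) ∘ₗ (g.symm : V →ₗ[F] V)) = 1 := by
      rw [← LinearEquiv.coe_trans, LinearEquiv.symm_trans_self]
      exact LinearMap.det_id
    have h2 : LinearMap.det (g : V →ₗ[F] V) = 1 := hg
    rw [LinearMap.det_comp, h2, one_mul] at h1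
    exact h1

end Lin

variable {F V : Type*} [Field F] [AddCommGroup V] [Module F V]

/-- `Φ` is a symplectic form -/
structure IsSp (Φ : Frm F V) : Prop where
  nd : Φ.Nd
  s : ∀ a, Φ.s a = a
  q : ∀ x, Φ.q x = 0
  alt : ∀ x, Φ.B x x = 0

/-- `Φ` is a hermitian form over the field with `r²` elements -/
structure IsHerm (r : ℕ) (Φ : Frm F V) : Prop where
  nd : Φ.Nd
  card : Nat.card F = r ^ 2
  s : ∀ a, Φ.s a = a ^ r
  q : ∀ x, Φ.q x = 0
  symm : ∀ x y, Φ.B y x = Φ.B x y ^ r

/-- the form attached to a quadratic form -/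
def frmQ (Q : QuadraticForm F V) : Frm F V where
  B x y := polar Q x y
  q x := Q x
  s a := a
  add_left x y z := polar_add_left ..
  add_right x y z := polar_add_right ..
  smul_left a x y := by rw [polar_smul_left, smul_eq_mul]
  smul_right a x y := by rw [polar_smul_right, smul_eq_mul]
  refl x y h := by rwa [polar_comm]
  q_add x y h := by
    have h1 : Q (x + y) - Q x - Q y = 0 := h
    rw [sub_sub, sub_eq_zero] at h1
    exact h1

/-- plus type: a totally singular subspace of half dimension -/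
def PlusT (Q : QuadraticForm F V) : Prop :=
  ∃ A : Submodule F V, (frmQ Q).TI A ∧ 2 * Module.finrank F A = Module.finrank F V

open Classical in
/-- the normal subgroup `SO(V)` (odd characteristic), `Ω(V)` (even characteristic) of the orthogonal group -/
noncomputable def nQ (Q : QuadraticForm F V) : Subgroup (V ≃ₗ[F] V) :=
  if (2 : F) = 0 then E Q else O Q ⊓ slV F V

/-- `H` acts irreducibly on `V` -/
def IrrG (H : Subgroup (V ≃ₗ[F] V)) : Prop :=
  ∀ Y : Submodule F V, (∀ h ∈ H, Inv h Y) → Y = ⊥ ∨ Y = ⊤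

/-- `D` is a proper nondegenerate block of `H`: its distinct images are orthogonal -/
structure Blk (Φ : Frm F V) (H : Subgroup (V ≃ₗ[F] V)) (D : Submodule F V) : Prop where
  ne_top : D ≠ ⊤
  nd : Φ.NdOn D
  orth : ∀ h ∈ H, D.map (h : V →ₗ[F] V) = D ∨ Φ.Orth (D.map (h : V →ₗ[F] V)) D

/-- linear case: `D` is a proper block of `H`: its distinct images are independent and span `V` -/
structure BlkL (H : Subgroup (V ≃ₗ[F] V)) (D : Submodule F V) : Prop where
  ne_top : D ≠ ⊤
  indep : sSupIndep {Y : Submodule F V | ∃ h ∈ H, Y = D.map (h : V →ₗ[F] V)}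
  span : sSup {Y : Submodule F V | ∃ h ∈ H, Y = D.map (h : V →ₗ[F] V)} = ⊤

/-- `H` contains all elements of `G` which stabilise `W` and are trivial on `U` -/
def HasOn (G H : Subgroup (V ≃ₗ[F] V)) (W U : Submodule F V) : Prop :=
  ∀ g ∈ G, Inv g W → (∀ u ∈ U, g u = u) → g ∈ H

/-- the number of elements of `G` without a conjugate (under `G`) in `H`, for subgroups of `GL(V)` -/
noncomputable def ndV (G H : Subgroup (V ≃ₗ[F] V)) : ℕ :=
  Nat.card {x : V ≃ₗ[F] V // x ∈ G ∧ ∀ g ∈ G, g * x * g⁻¹ ∉ H}

end Cfsg.Agent.H847.Bs
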